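import Groth.Agent.Lib.AdeqA.SiteFpqc
import Groth.Agent.Lib.Gabber15.Sheaf
import Mathlib.AlgebraicGeometry.Limits

/-! A criterion for the sheaf property in the fpqc topology on schemes over a base. -/

universe u w

open CategoryTheory CategoryTheory.Limits AlgebraicGeometry Opposite

set_option linter.style.haveILetI false
set_option backward.isDefEq.respectTransparency false
set_option backward.isDefEq.respectTransparency.types false

namespace Groth.Agent.EtFpqc16

variable {S : Scheme.{u}} (F : (Over S)ᵒᵖ ⥤ Type w)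

/-- descent along single flat surjective quasi-compact morphisms -/
def Descends : Prop :=
  ∀ ⦃U W : Over S⦄ (k : W ⟶ U), Flat k.left → Surjective k.left → QuasiCompact k.left →
    Function.Injective (F.map k.op) ∧
      ∀ t : F.obj (op W), (∀ ⦃Z : Over S⦄ (a b : Z ⟶ W), a ≫ k = b ≫ k → F.map a.op t = F.map b.op t) →
        ∃ s, F.map k.op s = t

theorem exists_flat_piece {V : Over S} [IsAffine V.left] (T : Sieve V)
    (hT : T ∈ (Scheme.fpqcTopology.over S) V) :
    ∃ (W : Over S) (k : W ⟶ V) (n : ℕ) (Y : Fin n → Over S) (i : ∀ j, Y j ⟶ W),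
      Flat k.left ∧ Surjective k.left ∧ QuasiCompact k.left ∧
        Sieve.ofArrows Y i ∈ AdeqA.zarJ S W ∧ ∀ j, T (i j ≫ k) := by
  obtain ⟨κ, X, f, hf, hfT⟩ := Gabber15.exists_family hT
  haveI : QuasiCompactCover (⟨κ, X, f⟩ : PreZeroHypercover V.left) :=
    Scheme.presieve₀_mem_qcPrecoverage_iff.1 hf.1
  obtain ⟨n, i, O, hO, hcov⟩ := QuasiCompactCover.exists_isAffineOpen_of_isCompact
    (⟨κ, X, f⟩ : PreZeroHypercover V.left) (U := ⊤) isCompact_univ
  let Z : Fin n → Scheme.{u} := fun j => Spec Γ(X (i j), O j)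
  let g : ∀ j, Z j ⟶ V.left := fun j => (hO j).fromSpec ≫ f (i j)
  let d : (∐ Z) ⟶ V.left := Sigma.desc g
  haveI : Flat d := by
    refine IsZariskiLocalAtSource.of_openCover (P := @Flat) (sigmaOpenCover Z) fun j => ?_
    show Flat (Sigma.ι Z j ≫ d)
    rw [Sigma.ι_desc]
    haveI : Flat (f (i j)) := ((Scheme.ofArrows_mem_precoverage_iff _).1 hf.2).2 (i j)
    exact MorphismProperty.comp_mem @Flat _ _ (inferInstanceAs (Flat (hO j).fromSpec)) ‹_›
  haveI : Surjective d := by
    refine ⟨fun x => ?_⟩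
    obtain ⟨j, z, hz, rfl⟩ := Set.mem_iUnion.1 (hcov.ge (Set.mem_univ x))
    obtain ⟨q, rfl⟩ := (hO j).range_fromSpec.ge hz
    refine ⟨Sigma.ι Z j q, ?_⟩
    rw [← Scheme.Hom.comp_apply, Sigma.ι_desc]
    rfl
  haveI : QuasiCompact d := by
    haveI : IsAffine (∐ Z) := inferInstance
    infer_instance
  refine ⟨Over.mk (d ≫ V.hom), Over.homMk d rfl, n, fun j => Over.mk (Sigma.ι Z j ≫ d ≫ V.hom),
    fun j => Over.homMk (Sigma.ι Z j) rfl, ‹_›, ‹_›, ‹_›, ?_, fun j => ?_⟩
  · rw [GrothendieckTopology.mem_over_iff, Sieve.overEquiv_ofArrows]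
    exact Precoverage.generate_mem_toGrothendieck (sigmaOpenCover Z).mem₀
  · let r : Over.mk (Sigma.ι Z j ≫ d ≫ V.hom) ⟶ Gabber15.mem f (i j) :=
      Over.homMk (hO j).fromSpec (by simp [d, g])
    have e : (Over.homMk (Sigma.ι Z j) rfl : Over.mk (Sigma.ι Z j ≫ d ≫ V.hom) ⟶ Over.mk (d ≫ V.hom)) ≫
        (Over.homMk d rfl : Over.mk (d ≫ V.hom) ⟶ V) = r ≫ Over.homMk (f (i j)) rfl :=
      Over.OverMorphism.ext (Sigma.ι_desc _ _)
    rw [e]
    exact T.downward_closed (hfT (i j)) r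

theorem isSheaf_of_descends (hz : Presieve.IsSheaf (AdeqA.zarJ S) F) (hd : Descends F) :
    Presieve.IsSheaf (Scheme.fpqcTopology.over S) F := by
  have hsep₀ : ∀ (V : Over S) [IsAffine V.left] (T : Sieve V), T ∈ (Scheme.fpqcTopology.over S) V →
      Presieve.IsSeparatedFor F T.arrows := fun V _ T hT => by
    obtain ⟨W, k, n, Y, i, h₁, h₂, h₃, hY, hT'⟩ := exists_flat_piece T hT
    intro x t₁ t₂ ht₁ ht₂
    refine (hd k h₁ h₂ h₃).1 ?_
    refine (Presieve.isSheafFor_iff_generate _ |>.2 (hz _ hY)).isSeparatedFor.ext fun Z g hg => ?_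
    obtain ⟨j⟩ := hg
    rw [← Functor.map_comp_apply, ← Functor.map_comp_apply, ← op_comp]
    exact (ht₁ _ (hT' j)).trans (ht₂ _ (hT' j)).symm
  have hsep : ∀ (V : Over S) (T : Sieve V), T ∈ (Scheme.fpqcTopology.over S) V →
      Presieve.IsSeparatedFor F T.arrows :=
    AdeqA.isSeparatedFor_of_local (AdeqA.zarJ S) _ _ hz fun V T hT => ⟨_, _, _, AdeqA.affine_cover_mem V,
      fun k => by
        haveI : IsAffine (Over.mk (V.left.affineCover.f k ≫ V.hom)).left :=
          inferInstanceAs (IsAffine (V.left.affineCover.X k))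
        exact hsep₀ _ _ ((Scheme.fpqcTopology.over S).pullback_stable _ hT)⟩
  refine AdeqA.isSheaf_of_local (AdeqA.zarJ S) _ _ hz hsep fun V T hT => ⟨_, _, _, AdeqA.affine_cover_mem V,
    fun c => ?_⟩
  have hT' := (Scheme.fpqcTopology.over S).pullback_stable
    (Over.homMk (V.left.affineCover.f c) rfl : Over.mk (V.left.affineCover.f c ≫ V.hom) ⟶ V) hT
  haveI : IsAffine (Over.mk (V.left.affineCover.f c ≫ V.hom)).left :=
    inferInstanceAs (IsAffine (V.left.affineCover.X c))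
  revert hT'
  generalize T.pullback (Over.homMk (V.left.affineCover.f c) rfl :
    Over.mk (V.left.affineCover.f c ≫ V.hom) ⟶ V) = T'
  intro hT' x hx
  obtain ⟨W, k, n, Y, i, h₁, h₂, h₃, hY, hY'⟩ := exists_flat_piece T' hT'
  obtain ⟨t, ht, -⟩ := (Presieve.isSheafFor_arrows_iff _ _).1 (Presieve.isSheafFor_iff_generate _ |>.2 (hz _ hY))
    (fun j => x (i j ≫ k) (hY' j)) fun j l Z gj gl e => hx gj gl (hY' j) (hY' l) (by rw [reassoc_of% e])
  obtain ⟨s, hs⟩ := (hd k h₁ h₂ h₃).2 t fun Z a b e => by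
    refine ((hz _ ((AdeqA.zarJ S).intersection_covering ((AdeqA.zarJ S).pullback_stable a hY)
      ((AdeqA.zarJ S).pullback_stable b hY))).isSeparatedFor.ext fun Z' h hh => ?_)
    obtain ⟨_, u, _, ⟨j⟩, hu⟩ := hh.1
    obtain ⟨_, v, _, ⟨l⟩, hv⟩ := hh.2
    rw [← Functor.map_comp_apply, ← Functor.map_comp_apply, ← op_comp, ← op_comp, ← hu, ← hv, op_comp, op_comp,
      Functor.map_comp_apply, Functor.map_comp_apply, ht j, ht l]
    exact hx u v (hY' j) (hY' l) (by rw [reassoc_of% hu, reassoc_of% hv, e])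
  refine ⟨s, fun Z g hg => ?_, fun s' hs' => ?_⟩
  · let R : Sieve _ := Sieve.ofArrows _ (fun j => i j ≫ k)
    have hR : R ∈ (Scheme.fpqcTopology.over S) _ := by
      rw [GrothendieckTopology.mem_over_iff]
      have hk : Sieve.ofArrows (fun _ : PUnit.{u + 1} => W.left) (fun _ => k.left) ∈ Scheme.fpqcTopology _ := by
        rw [Sieve.ofArrows, Presieve.ofArrows_pUnit]
        haveI := h₁; haveI := h₂; haveI := h₃
        exact Precoverage.generate_mem_toGrothendieck k.left.singleton_mem_fpqcPrecoverage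
      refine Scheme.fpqcTopology.transitive hk _ fun Z' g' hg' => ?_
      obtain ⟨_, u, _, ⟨-⟩, rfl⟩ := hg'
      rw [Sieve.pullback_comp]
      refine Scheme.fpqcTopology.pullback_stable u (Scheme.fpqcTopology.superset_covering ?_
        (Scheme.zariskiTopology_le_fpqcTopology _ ((GrothendieckTopology.mem_over_iff _ _).1 hY)))
      intro Z'' g'' hg''
      rw [Sieve.overEquiv_ofArrows] at hg''
      obtain ⟨_, v, _, ⟨j⟩, rfl⟩ := hg''
      show (Sieve.overEquiv _ R).arrows ((v ≫ (i j).left) ≫ k.left)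
      rw [Category.assoc, ← Over.comp_left, Sieve.overEquiv_ofArrows]
      exact Sieve.downward_closed _ (Sieve.le_generate _ _ _ ⟨j⟩) v
    refine (hsep Z _ ((Scheme.fpqcTopology.over S).pullback_stable g hR)).ext fun Z' h hh => ?_
    obtain ⟨_, u, _, ⟨j⟩, hu⟩ := hh
    rw [← Functor.map_comp_apply, ← op_comp, ← hu, op_comp, op_comp, Functor.map_comp_apply, Functor.map_comp_apply,
      hs, ht j]
    exact hx u h (hY' j) hg (by rw [hu])
  · refine (hd k h₁ h₂ h₃).1 (((Presieve.isSheafFor_iff_generate _).2 (hz _ hY)).isSeparatedFor.ext fun Z g hg => ?_)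
    obtain ⟨j⟩ := hg
    rw [hs, ht j, ← Functor.map_comp_apply, ← op_comp]
    exact hs' _ (hY' j)

end Groth.Agent.EtFpqc16
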