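import Groth.Agent.Lib.SmallBigBC16.Basic
import Groth.Agent.Lib.EtFpqc16.Criterion
import Groth.Agent.Lib.EtStalk.Pull
import Groth.Agent.Lib.EtStalk.Agree

/-! Sheaves on the big étale site coming from small étale sites descend along flat quasi-compact surjections. -/

universe u

open CategoryTheory CategoryTheory.Limits AlgebraicGeometry Opposite

set_option linter.style.haveILetI false
set_option backward.isDefEq.respectTransparency false
set_option backward.isDefEq.respectTransparency.types false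

namespace Groth.Agent.EtFpqc16

open Groth.Agent.EtStalk

variable {S : Scheme.{u}}

/-- the restriction comparisons of `G` are isomorphisms -/
def IsLocal (G : BigSite.Ab Scheme.etalePrecoverage S) : Prop :=
  ∀ (X : Scheme.{u}) (a : X ⟶ S) (N : Scheme.{u}) (g : N ⟶ X),
    IsIso (SmallBigBC16.c AddCommGrpCat.{u + 1} g ((SmallBigBC16.bigPull AddCommGrpCat.{u + 1} a).obj G))

instance isIso_unit (X : Scheme.{u}) : IsIso (SmallBigBC16.piAdj AddCommGrpCat.{u + 1} X).unit :=
  haveI := fun G => (Groth.Agent.S6184.result X).2 G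
  NatIso.isIso_of_isIso_app _

theorem isLocal_pi (F : EtCoh.Ab S) : IsLocal ((BigSite.piEtPull Scheme.etalePrecoverage S).obj F) := by
  intro X a N g
  let e := Adjunction.leftAdjointUniq
    ((SmallBigBC16.piAdj AddCommGrpCat.{u + 1} S).comp (BigSite.bigAdj Scheme.etalePrecoverage a AddCommGrpCat.{u + 1}))
    (((SmallBigBC16.adj AddCommGrpCat.{u + 1} a).comp (SmallBigBC16.piAdj AddCommGrpCat.{u + 1} X)).ofNatIsoRight
      (SmallBigBC16.e1 AddCommGrpCat.{u + 1} a).symm)
  have h := SmallBigBC16.c_naturality AddCommGrpCat.{u + 1} g (e.app F).inv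
  haveI := SmallBigBC16.isIso_c_pi AddCommGrpCat.{u + 1} g ((SmallBigBC16.pull AddCommGrpCat.{u + 1} a).obj F)
  haveI : IsIso ((SmallBigBC16.pull AddCommGrpCat.{u + 1} g).map ((SmallBigBC16.res AddCommGrpCat.{u + 1} X).map
      (e.app F).inv) ≫ SmallBigBC16.c AddCommGrpCat.{u + 1} g
        ((SmallBigBC16.bigPull AddCommGrpCat.{u + 1} a).obj ((BigSite.piEtPull Scheme.etalePrecoverage S).obj F))) := by
    erw [h]
    exact @IsIso.comp_isIso _ _ _ _ _ _ _ (SmallBigBC16.isIso_c_pi AddCommGrpCat.{u + 1} g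
      ((SmallBigBC16.pull AddCommGrpCat.{u + 1} a).obj F)) inferInstance
  exact IsIso.of_isIso_comp_left ((SmallBigBC16.pull AddCommGrpCat.{u + 1} g).map
    ((SmallBigBC16.res AddCommGrpCat.{u + 1} X).map (e.app F).inv)) _

variable {G : BigSite.Ab Scheme.etalePrecoverage S}

/-- two sections agree on an étale neighbourhood of a point -/
def AgreeAt {M : Over S} (a b : G.obj.obj (op M)) (x : M.left) : Prop :=
  ∃ (E : Over S) (e : E ⟶ M), Etale e.left ∧ (∃ y, e.left y = x) ∧ G.obj.map e.op a = G.obj.map e.op b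

theorem isOpen_agreeAt {M : Over S} (a b : G.obj.obj (op M)) : IsOpen {x | AgreeAt a b x} := by
  rw [isOpen_iff_forall_mem_open]
  rintro x ⟨E, e, he, ⟨y, rfl⟩, h⟩
  exact ⟨Set.range e.left, fun z hz => ⟨E, e, he, hz, h⟩, e.left.isOpenMap.isOpen_range, y, rfl⟩

theorem mem_J_of_forall {M : Over S} (R : Sieve M)
    (h : ∀ x : M.left, ∃ (E : Over S) (e : E ⟶ M) (y : E.left), Etale e.left ∧ e.left y = x ∧ R e) :
    R ∈ QuotSh.J Scheme.etalePrecoverage S M := by
  choose E e y he hy hR using h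
  rw [GrothendieckTopology.mem_over_iff]
  refine GrothendieckTopology.superset_covering _ ?_ (Precoverage.generate_mem_toGrothendieck
    (R := Presieve.ofArrows (fun x => (E x).left) fun x => (e x).left) ?_)
  · rw [Sieve.generate_le_iff]
    rintro _ _ ⟨x⟩
    refine (Sieve.overEquiv_iff _ _).2 ?_
    have e' : (Over.homMk (e x).left rfl : Over.mk ((e x).left ≫ M.hom) ⟶ M) =
        (Over.homMk (𝟙 _) (by rw [Category.id_comp]; exact (Over.w (e x)).symm) :
          Over.mk ((e x).left ≫ M.hom) ⟶ E x) ≫ e x :=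
      Over.OverMorphism.ext (Category.id_comp _).symm
    rw [e']
    exact R.downward_closed (hR x) _
  · exact (Scheme.ofArrows_mem_precoverage_iff _).2 ⟨fun x => ⟨x, y x, hy x⟩, he⟩

theorem eq_of_agreeAt {M : Over S} (a b : G.obj.obj (op M)) (h : ∀ x, AgreeAt a b x) : a = b := by
  have hs : Presieve.IsSheaf (QuotSh.J Scheme.etalePrecoverage S) (G.obj ⋙ forget AddCommGrpCat.{u + 1}) :=
    (isSheaf_iff_isSheaf_of_type _ _).1 ((Presheaf.isSheaf_iff_isSheaf_forget _ _ _).1 G.property)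
  let R : Sieve M :=
    { arrows := fun E e => G.obj.map e.op a = G.obj.map e.op b
      downward_closed := fun {E E'} e he f => by rw [op_comp, Functor.map_comp_apply, Functor.map_comp_apply, he] }
  refine (hs.isSeparated R (mem_J_of_forall R fun x => ?_)).ext fun E e he => he
  obtain ⟨E, e, he, ⟨y, hy⟩, hab⟩ := h x
  exact ⟨E, e, y, he, hy, hab⟩

/-- agreement pulls back -/
theorem agreeAt_map {M N : Over S} (φ : N ⟶ M) (a b : G.obj.obj (op M)) (z : N.left) (h : AgreeAt a b (φ.left z)) :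
    AgreeAt (G.obj.map φ.op a) (G.obj.map φ.op b) z := by
  obtain ⟨E, e, he, ⟨y, hy⟩, hab⟩ := h
  haveI := he
  obtain ⟨p, hp₁, hp₂⟩ := Scheme.Pullback.exists_preimage_pullback (f := φ.left) (g := e.left) z y hy.symm
  let E' : Over S := Over.mk (pullback.fst φ.left e.left ≫ N.hom)
  let p₁ : E' ⟶ N := Over.homMk (pullback.fst φ.left e.left) rfl
  let p₂ : E' ⟶ E := Over.homMk (pullback.snd φ.left e.left) (by
    show pullback.snd _ _ ≫ E.hom = pullback.fst _ _ ≫ N.hom
    rw [← Over.w e, ← Over.w φ, pullback.condition_assoc])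
  have w : p₁ ≫ φ = p₂ ≫ e := Over.OverMorphism.ext pullback.condition
  refine ⟨E', p₁, MorphismProperty.pullback_fst _ _ he, ⟨p, hp₁⟩, ?_⟩
  rw [← Functor.map_comp_apply, ← Functor.map_comp_apply, ← op_comp, w, op_comp, Functor.map_comp_apply,
    Functor.map_comp_apply, hab]

/-- the small sheaf of `G` at `M` -/
noncomputable abbrev sh (G : BigSite.Ab Scheme.etalePrecoverage S) {X : Scheme.{u}} (a : X ⟶ S) : EtCoh.Ab X :=
  (BigSite.resEtAlong Scheme.etalePrecoverage a).obj G

variable (hG : IsLocal G)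

/-- the restriction on stalks -/
noncomputable def stalkRes {X N : Scheme.{u}} (a : X ⟶ S) (g : N ⟶ X) {Ω : Type u} [Field Ω] [IsSepClosed Ω]
    (ξ : Spec (CommRingCat.of Ω) ⟶ N) :
    (EtCoh.stalk (ξ ≫ g)).obj (sh G a) ⟶ (EtCoh.stalk ξ).obj
      ((SmallBigBC16.res AddCommGrpCat.{u + 1} N).obj ((SmallBigBC16.bigPull AddCommGrpCat.{u + 1} g).obj
        ((SmallBigBC16.bigPull AddCommGrpCat.{u + 1} a).obj G))) :=
  stalkPull g ξ (sh G a) ≫ (EtCoh.stalk ξ).map
    (SmallBigBC16.c AddCommGrpCat.{u + 1} g ((SmallBigBC16.bigPull AddCommGrpCat.{u + 1} a).obj G))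

include hG in
theorem stalkRes_bijective {X N : Scheme.{u}} (a : X ⟶ S) (g : N ⟶ X) {Ω : Type u} [Field Ω] [IsSepClosed Ω]
    (ξ : Spec (CommRingCat.of Ω) ⟶ N) : Function.Bijective (stalkRes (G := G) a g ξ) := by
  haveI := hG X a N g
  unfold stalkRes
  exact ConcreteCategory.bijective_of_isIso _

theorem stalkRes_germ {X N : Scheme.{u}} (a : X ⟶ S) (g : N ⟶ X) {Ω : Type u} [Field Ω] [IsSepClosed Ω]
    (ξ : Spec (CommRingCat.of Ω) ⟶ N) {V : X.Etale} (x : fib (ξ ≫ g) V) (s : (sh G a).obj.obj (op V)) :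
    stalkRes a g ξ (germ (ξ ≫ g) (sh G a) x s) =
      germ ξ _ (liftFib g ξ x)
        (((SmallBigBC16.r AddCommGrpCat.{u + 1} g).app
          ((SmallBigBC16.bigPull AddCommGrpCat.{u + 1} a).obj G)).hom.app (op V) s) := by
  unfold stalkRes
  rw [ConcreteCategory.comp_apply, germ_stalkPull, germ_nat]
  congr 1
  have h := ((SmallBigBC16.adj AddCommGrpCat.{u + 1} g).homEquiv _ _).apply_symm_apply
    ((SmallBigBC16.r AddCommGrpCat.{u + 1} g).app ((SmallBigBC16.bigPull AddCommGrpCat.{u + 1} a).obj G))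
  rw [Adjunction.homEquiv_unit] at h
  exact ConcreteCategory.congr_hom (congrArg (fun q => q.hom.app (op V)) h) s

include hG in
/-- agreement descends -/
theorem agreeAt_of_map {M N : Over S} (φ : N ⟶ M) (a b : G.obj.obj (op M)) (z : N.left)
    (h : AgreeAt (G.obj.map φ.op a) (G.obj.map φ.op b) z) : AgreeAt a b (φ.left z) := by
  obtain ⟨E, e, he, ⟨y, rfl⟩, hab⟩ := h
  let ξ := geomPt E.left y ≫ e.left
  let T : M.left.Etale := EtCoh.top M.left
  let τ : (Over.map M.hom).obj ((EtFppf.a M.left).obj T) ⟶ M := Over.homMk (𝟙 _) (by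
    show 𝟙 _ ≫ M.hom = 𝟙 _ ≫ M.hom
    rfl)
  let x : fib (ξ ≫ φ.left) T := Over.homMk (ξ ≫ φ.left) (Category.comp_id _)
  let E' : N.left.Etale := MorphismProperty.Over.mk ⊤ e.left he
  let N' := (EtCoh.bc φ.left).obj T
  let g : E' ⟶ N' := MorphismProperty.Over.homMk (pullback.lift (e.left ≫ φ.left) e.left (Category.comp_id _))
    (pullback.lift_snd _ _ _)
  let y' : fib ξ E' := Over.homMk (geomPt E.left y) rfl
  have key : germ (ξ ≫ φ.left) (sh G M.hom) x (G.obj.map τ.op a) =
      germ (ξ ≫ φ.left) (sh G M.hom) x (G.obj.map τ.op b) := by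
    refine (stalkRes_bijective hG M.hom φ.left ξ).1 ?_
    rw [stalkRes_germ, stalkRes_germ, germ_eq_iff]
    refine ⟨E', g, y', Over.OverMorphism.ext ?_, ?_⟩
    · apply pullback.hom_ext
      · show (geomPt E.left y ≫ pullback.lift _ _ _) ≫ pullback.fst _ _ = pullback.lift _ _ _ ≫ pullback.fst _ _
        rw [Category.assoc, pullback.lift_fst, pullback.lift_fst]
        exact (Category.assoc _ _ _).symm
      · show (geomPt E.left y ≫ pullback.lift _ _ _) ≫ pullback.snd _ _ = pullback.lift _ _ _ ≫ pullback.snd _ _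
        rw [Category.assoc, pullback.lift_snd, pullback.lift_snd]
    · show G.obj.map _ (G.obj.map _ (G.obj.map τ.op a)) = G.obj.map _ (G.obj.map _ (G.obj.map τ.op b))
      let q : (Over.map M.hom).obj ((Over.map φ.left).obj ((EtFppf.a N.left).obj E')) ⟶ E :=
        Over.homMk (𝟙 _) (by
          show 𝟙 _ ≫ E.hom = (e.left ≫ φ.left) ≫ M.hom
          rw [Category.id_comp, Category.assoc, Over.w φ, Over.w e])
      have hq : (Over.map M.hom).map ((Over.map φ.left).map ((EtFppf.a N.left).map g)) ≫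
          (Over.map M.hom).map (SmallBigBC16.proj φ.left T) ≫ τ = q ≫ e ≫ φ := by
        ext : 1
        show pullback.lift _ _ _ ≫ pullback.fst _ _ ≫ 𝟙 _ = 𝟙 _ ≫ e.left ≫ φ.left
        simp
      erw [← Functor.map_comp_apply, ← Functor.map_comp_apply, ← Functor.map_comp_apply, ← Functor.map_comp_apply]
      have hq' := congrArg Quiver.Hom.op hq
      simp only [op_comp, Category.assoc] at hq'
      erw [hq']
      erw [Functor.map_comp_apply, Functor.map_comp_apply, Functor.map_comp_apply, Functor.map_comp_apply, hab]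
  obtain ⟨V, gV, yV, hyV, hV⟩ := (germ_eq_iff _ _ _ _ _).1 key
  refine ⟨(Over.map M.hom).obj ((EtFppf.a M.left).obj V),
    (Over.map M.hom).map ((EtFppf.a M.left).map gV) ≫ τ, ?_, ⟨fibPt yV, ?_⟩, ?_⟩
  · have : ((Over.map M.hom).map ((EtFppf.a M.left).map gV) ≫ τ).left = V.hom := by
      show gV.left ≫ 𝟙 _ = V.hom
      exact MorphismProperty.Over.w gV
    rw [this]
    exact V.prop
  · show gV.left (fibPt yV) = _
    have hc : yV.left ≫ gV.left = ξ ≫ φ.left := congrArg Over.Hom.left hyV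
    refine ((Scheme.Hom.comp_apply _ _ _).symm.trans (congrArg (fun t : Spec (CommRingCat.of (SeparableClosure (E.left.residueField y))) ⟶ M.left => t default) hc)).trans ?_
    rw [Scheme.Hom.comp_apply]
    show φ.left ((geomPt E.left y ≫ e.left) default) = _
    rw [Scheme.Hom.comp_apply, geomPt_default]
  · rw [op_comp, Functor.map_comp_apply, Functor.map_comp_apply]
    exact hV

variable {U W : Over S} (k : W ⟶ U) [Flat k.left] [Surjective k.left] [QuasiCompact k.left]

/-- the fibre product with `W` -/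
noncomputable def fib' (Z : Over S) (m : Z ⟶ U) : Over S := Over.mk (pullback.fst m.left k.left ≫ Z.hom)

noncomputable def fibFst (Z : Over S) (m : Z ⟶ U) : fib' k Z m ⟶ Z := Over.homMk (pullback.fst m.left k.left) rfl

noncomputable def fibSnd (Z : Over S) (m : Z ⟶ U) : fib' k Z m ⟶ W := Over.homMk (pullback.snd m.left k.left) (by
  show pullback.snd _ _ ≫ W.hom = pullback.fst _ _ ≫ Z.hom
  rw [← Over.w k, ← Over.w m, pullback.condition_assoc])

theorem fib_w (Z : Over S) (m : Z ⟶ U) : fibFst k Z m ≫ m = fibSnd k Z m ≫ k :=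
  Over.OverMorphism.ext pullback.condition

include hG in
theorem eq_of_fib {Z : Over S} (m : Z ⟶ U) (a b : G.obj.obj (op Z))
    (h : G.obj.map (fibFst k Z m).op a = G.obj.map (fibFst k Z m).op b) : a = b := by
  refine eq_of_agreeAt a b fun x => ?_
  haveI : Surjective (fibFst k Z m).left := inferInstanceAs (Surjective (pullback.fst m.left k.left))
  obtain ⟨z, rfl⟩ := (fibFst k Z m).left.surjective x
  refine agreeAt_of_map hG _ a b z ?_
  rw [h]
  exact ⟨_, 𝟙 _, inferInstanceAs (Etale (𝟙 _)), ⟨z, rfl⟩, rfl⟩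

include hG in
theorem exists_local (t : G.obj.obj (op W))
    (ht : ∀ ⦃Z : Over S⦄ (a b : Z ⟶ W), a ≫ k = b ≫ k → G.obj.map a.op t = G.obj.map b.op t) (u : U.left) :
    ∃ (M : Over S) (m : M ⟶ U) (p : M.left) (s : G.obj.obj (op M)), Etale m.left ∧ m.left p = u ∧
      ∀ ⦃Z : Over S⦄ (a : Z ⟶ M) (b : Z ⟶ W), a ≫ m = b ≫ k → G.obj.map a.op s = G.obj.map b.op t := by
  obtain ⟨w, rfl⟩ := k.left.surjective u
  let ξ := geomPt W.left w
  let T : W.left.Etale := EtCoh.top W.left
  let τ : (Over.map U.hom).obj ((Over.map k.left).obj ((EtFppf.a W.left).obj T)) ⟶ W := Over.homMk (𝟙 _) (by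
    show 𝟙 _ ≫ W.hom = (𝟙 _ ≫ k.left) ≫ U.hom
    rw [Category.id_comp, Category.id_comp, Over.w k])
  let xT : fib ξ T := Over.homMk ξ (Category.comp_id _)
  obtain ⟨p₀, hp₀⟩ := (stalkRes_bijective hG U.hom k.left ξ).2 (germ ξ _ xT (G.obj.map τ.op t))
  obtain ⟨E, y, s, rfl⟩ := germ_surjective _ _ p₀
  rw [stalkRes_germ] at hp₀
  let E₀ : Over S := (Over.map U.hom).obj ((EtFppf.a U.left).obj E)
  let m : E₀ ⟶ U := Over.homMk E.hom rfl
  let s₀ : G.obj.obj (op E₀) := s
  haveI : Etale m.left := E.prop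
  let A : Set (fib' k E₀ m).left :=
    {z | AgreeAt (G.obj.map (fibFst k E₀ m).op s₀) (G.obj.map (fibSnd k E₀ m).op t) z}
  -- the point above the geometric point is in the agreement locus
  let gT : (EtCoh.bc k.left).obj E ⟶ T := MorphismProperty.Over.homMk (pullback.snd E.hom k.left) (Category.comp_id _)
  have hxT : (Scheme.pointSmallEtale ξ).fiber.map gT (liftFib k.left ξ y) = xT :=
    Over.OverMorphism.ext (pullback.lift_snd _ _ _)
  rw [← hxT, ← germ_map, germ_eq_iff] at hp₀
  obtain ⟨V, g, yV, hyV, hV⟩ := hp₀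
  have hz₀ : fibPt (liftFib k.left ξ y) ∈ A := by
    let e : (Over.map U.hom).obj ((Over.map k.left).obj ((EtFppf.a W.left).obj V)) ⟶ fib' k E₀ m :=
      Over.homMk g.left (by
        show g.left ≫ pullback.fst E.hom k.left ≫ E.hom ≫ U.hom = (V.hom ≫ k.left) ≫ U.hom
        rw [← MorphismProperty.Over.w g]
        show g.left ≫ pullback.fst E.hom k.left ≫ E.hom ≫ U.hom = ((g.left ≫ pullback.snd E.hom k.left) ≫ k.left) ≫ U.hom
        rw [pullback.condition_assoc, Category.assoc, Category.assoc])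
    have hget : Etale g.left := by
      haveI : Etale V.hom := V.prop
      haveI : Etale ((EtCoh.bc k.left).obj E).hom := ((EtCoh.bc k.left).obj E).prop
      haveI : Etale (g.left ≫ ((EtCoh.bc k.left).obj E).hom) := by rw [MorphismProperty.Over.w g]; infer_instance
      exact Etale.of_comp g.left ((EtCoh.bc k.left).obj E).hom
    refine ⟨_, e, hget, ⟨fibPt yV, ?_⟩, ?_⟩
    · exact (Scheme.Hom.comp_apply _ _ _).symm.trans (congrArg fibPt hyV)
    · have h1 : (Over.map U.hom).map ((Over.map k.left).map ((EtFppf.a W.left).map g)) ≫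
          (Over.map U.hom).map (SmallBigBC16.proj k.left E) = e ≫ fibFst k E₀ m := by ext : 1; rfl
      have h2 : (Over.map U.hom).map ((Over.map k.left).map ((EtFppf.a W.left).map g)) ≫
          (Over.map U.hom).map ((Over.map k.left).map ((EtFppf.a W.left).map gT)) ≫ τ = e ≫ fibSnd k E₀ m := by
        ext : 1
        show g.left ≫ pullback.snd _ _ ≫ 𝟙 _ = g.left ≫ pullback.snd _ _
        simp
      rw [← Functor.map_comp_apply, ← Functor.map_comp_apply, ← op_comp, ← op_comp, ← h1, ← h2, op_comp, op_comp,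
        op_comp, Functor.map_comp_apply, Functor.map_comp_apply, Functor.map_comp_apply]
      exact hV
  -- the agreement locus is saturated
  have hsat : ∀ z₁ z₂, (fibFst k E₀ m).left z₁ = (fibFst k E₀ m).left z₂ → z₁ ∈ A → z₂ ∈ A := by
    intro z₁ z₂ hz h₁
    obtain ⟨q, hq₁, hq₂⟩ := Scheme.Pullback.exists_preimage_pullback
      (f := (fibFst k E₀ m).left) (g := (fibFst k E₀ m).left) z₁ z₂ hz
    let Q : Over S := Over.mk (pullback.fst (fibFst k E₀ m).left (fibFst k E₀ m).left ≫ (fib' k E₀ m).hom)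
    let q₁ : Q ⟶ fib' k E₀ m := Over.homMk (pullback.fst _ _) rfl
    let q₂ : Q ⟶ fib' k E₀ m := Over.homMk (pullback.snd _ _) (by
      show pullback.snd _ _ ≫ (fib' k E₀ m).hom = pullback.fst _ _ ≫ (fib' k E₀ m).hom
      rw [← Over.w (fibFst k E₀ m), pullback.condition_assoc])
    have hw : q₁ ≫ fibFst k E₀ m = q₂ ≫ fibFst k E₀ m := Over.OverMorphism.ext pullback.condition
    have hk : (q₁ ≫ fibSnd k E₀ m) ≫ k = (q₂ ≫ fibSnd k E₀ m) ≫ k := by
      rw [Category.assoc, Category.assoc, ← fib_w, reassoc_of% hw]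
    have h := agreeAt_map q₁ _ _ q ((congrArg (fun z => z ∈ A) hq₁).mpr h₁)
    rw [← Functor.map_comp_apply, ← Functor.map_comp_apply, ← op_comp, ← op_comp, hw, ht _ _ hk, op_comp, op_comp,
      Functor.map_comp_apply, Functor.map_comp_apply] at h
    exact (congrArg (fun z => z ∈ A) hq₂).mp (agreeAt_of_map hG q₂ _ _ q h)
  haveI : Flat (fibFst k E₀ m).left := inferInstanceAs (Flat (pullback.fst m.left k.left))
  haveI : Surjective (fibFst k E₀ m).left := inferInstanceAs (Surjective (pullback.fst m.left k.left))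
  haveI : QuasiCompact (fibFst k E₀ m).left := inferInstanceAs (QuasiCompact (pullback.fst m.left k.left))
  let O : E₀.left.Opens := ⟨(fibFst k E₀ m).left '' A, by
    rw [← (Flat.isQuotientMap_of_surjective (fibFst k E₀ m).left).isOpen_preimage]
    convert isOpen_agreeAt (G.obj.map (fibFst k E₀ m).op s₀) (G.obj.map (fibSnd k E₀ m).op t) using 1
    ext z
    exact ⟨fun ⟨z', h', e⟩ => hsat z' z e h', fun h' => ⟨z, h', rfl⟩⟩⟩
  let M : Over S := Over.mk (O.ι ≫ E₀.hom)
  let ι₀ : M ⟶ E₀ := Over.homMk O.ι rfl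
  refine ⟨M, ι₀ ≫ m, ⟨(fibFst k E₀ m).left (fibPt (liftFib k.left ξ y)), _, hz₀, rfl⟩, G.obj.map ι₀.op s₀,
    inferInstanceAs (Etale (O.ι ≫ m.left)), ?_, fun Z a b hab => ?_⟩
  · show (O.ι ≫ E.hom) _ = _
    rw [Scheme.Hom.comp_apply]
    show E.hom ((pullback.fst E.hom k.left) ((liftFib k.left ξ y).left (default : Spec (CommRingCat.of (SeparableClosure (W.left.residueField w)))))) = _
    refine (Scheme.Hom.comp_apply _ _ _).symm.trans ?_
    refine (Scheme.Hom.comp_apply _ _ _).symm.trans ?_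
    have e : (liftFib k.left ξ y).left ≫ pullback.fst E.hom k.left ≫ E.hom = ξ ≫ k.left := by
      show pullback.lift _ ξ _ ≫ pullback.fst _ _ ≫ E.hom = _
      rw [pullback.condition, pullback.lift_snd_assoc]
    refine (congrArg (fun q : Spec (CommRingCat.of (SeparableClosure (W.left.residueField w))) ⟶ U.left => q default) e).trans ?_
    rw [Scheme.Hom.comp_apply, geomPt_default]
  · have hl : (a ≫ ι₀).left ≫ m.left = b.left ≫ k.left := by
      rw [← Over.comp_left, ← Over.comp_left, Category.assoc, hab]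
    let l : Z ⟶ fib' k E₀ m := Over.homMk (pullback.lift (a ≫ ι₀).left b.left hl) (by
      show pullback.lift _ _ _ ≫ pullback.fst _ _ ≫ E₀.hom = Z.hom
      rw [pullback.lift_fst_assoc, Over.w])
    have hl₁ : l ≫ fibFst k E₀ m = a ≫ ι₀ := Over.OverMorphism.ext (pullback.lift_fst _ _ _)
    have hl₂ : l ≫ fibSnd k E₀ m = b := Over.OverMorphism.ext (pullback.lift_snd _ _ _)
    rw [← Functor.map_comp_apply, ← op_comp, ← hl₁, ← hl₂, op_comp, op_comp, Functor.map_comp_apply,
      Functor.map_comp_apply]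
    refine eq_of_agreeAt _ _ fun z => agreeAt_map l _ _ z ?_
    have hO : (fibFst k E₀ m).left (l.left z) ∈ O := by
      rw [← Scheme.Hom.comp_apply, ← Over.comp_left, hl₁, Over.comp_left, Scheme.Hom.comp_apply]
      exact (a.left z).2
    obtain ⟨z', hz', he⟩ := hO
    exact hsat z' _ he hz'

include hG in
theorem descends_step : Function.Injective (G.obj.map k.op) ∧
    ∀ t : G.obj.obj (op W), (∀ ⦃Z : Over S⦄ (a b : Z ⟶ W), a ≫ k = b ≫ k → G.obj.map a.op t = G.obj.map b.op t) →
      ∃ s, G.obj.map k.op s = t := by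
  refine ⟨fun a b h => ?_, fun t ht => ?_⟩
  · refine eq_of_fib hG k (𝟙 U) a b ?_
    have e : fibFst k U (𝟙 U) = fibSnd k U (𝟙 U) ≫ k := (Category.comp_id _).symm.trans (fib_w k U (𝟙 U))
    rw [e, op_comp, Functor.map_comp_apply, Functor.map_comp_apply, h]
  choose M m p s hm hp hs using fun u => exists_local hG k t ht u
  have hsh : Presieve.IsSheaf (QuotSh.J Scheme.etalePrecoverage S) (G.obj ⋙ forget AddCommGrpCat.{u + 1}) :=
    (isSheaf_iff_isSheaf_of_type _ _).1 ((Presheaf.isSheaf_iff_isSheaf_forget _ _ _).1 G.property)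
  have hR : Sieve.ofArrows M m ∈ QuotSh.J Scheme.etalePrecoverage S U :=
    mem_J_of_forall _ fun u => ⟨M u, m u, p u, hm u, hp u, Sieve.le_generate _ _ _ ⟨u⟩⟩
  obtain ⟨s₁, hs₁, -⟩ := (Presieve.isSheafFor_arrows_iff _ _).1 ((Presieve.isSheafFor_iff_generate _).2 (hsh _ hR))
    s fun u v Z gu gv e => eq_of_fib hG k (gu ≫ m u) _ _ (by
      show G.obj.map _ (G.obj.map gu.op (s u)) = G.obj.map _ (G.obj.map gv.op (s v))
      rw [← Functor.map_comp_apply, ← Functor.map_comp_apply, ← op_comp, ← op_comp,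
        hs u _ (fibSnd k Z (gu ≫ m u)) (by rw [Category.assoc, fib_w]),
        hs v _ (fibSnd k Z (gu ≫ m u)) (by rw [Category.assoc, ← e, fib_w])])
  refine ⟨s₁, (hsh.isSeparated _ ((QuotSh.J Scheme.etalePrecoverage S).pullback_stable k hR)).ext fun Z h hh => ?_⟩
  obtain ⟨_, v, _, ⟨u⟩, hv⟩ := hh
  show G.obj.map h.op (G.obj.map k.op s₁) = G.obj.map h.op t
  rw [← Functor.map_comp_apply, ← op_comp, ← hv, op_comp, Functor.map_comp_apply]
  exact (congrArg (G.obj.map v.op) (hs₁ u)).trans (hs u v h hv)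

omit [Flat k.left] [Surjective k.left] [QuasiCompact k.left] in
include hG in
theorem isSheaf_fpqc : Presheaf.IsSheaf (Scheme.fpqcTopology.over S) G.obj := by
  rw [Presheaf.isSheaf_iff_isSheaf_forget _ _ (forget AddCommGrpCat.{u + 1}), isSheaf_iff_isSheaf_of_type]
  refine isSheaf_of_descends _ ?_ fun U W k h₁ h₂ h₃ => ?_
  · exact Presieve.isSheaf_of_le _ (BigSite.J_mono BigSite.zariskiPrecoverage_le_etalePrecoverage S)
      ((isSheaf_iff_isSheaf_of_type _ _).1 ((Presheaf.isSheaf_iff_isSheaf_forget _ _ _).1 G.property))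
  · haveI := h₁; haveI := h₂; haveI := h₃
    exact descends_step hG k

end Groth.Agent.EtFpqc16
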